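import Cfsg.Agent.Lib.KnownSimple.ChevBorelTits
import Cfsg.Agent.Lib.KnownSimple.ChevParabolicRadical
import Cfsg.Agent.Lib.SteinbergChar.Unique
import Cfsg.Agent.Lib.SteinbergChar.Values
import Cfsg.Agent.Lib.BlockCover.DefectRank
import Cfsg.Agent.Lib.BlockCover.PrincipalSquares
import Cfsg.Agent.Lib.PCore.Basic
import Cfsg.Agent.S0914
import Cfsg.Agent.S0955

/-!
# The blocks of a Chevalley group in its defining characteristic

Every block has defect zero or full defect, the full defect block is unique, and the block of the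
Steinberg character is the only one of defect zero.
-/

set_option autoImplicit false
set_option linter.unusedSectionVars false
set_option linter.style.haveILetI false

namespace CfsgLib.ChevBlocks

open Cfsg.Lie CfsgLib.ChevStr CfsgLib.KnownSimple
open scoped MatrixGroups

universe u

variable {D : ChevalleyDatum} {F : Type u} [Field F] [Fintype F] (C : ChevCore D F)
variable (hchk : ChevRadical.radCheck D = true)
variable (p : ℕ) [Fact p.Prime] [CharP F p]

include C hchk in
/-- A `p`-radical subgroup contains no more than a `p`-subgroup in its centraliser. -/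
theorem eq_one_of_centralises {R : Subgroup ↥(D.group F)} (hR : IsPGroup p R) (hne : R ≠ ⊥)
    (hcore : (Cfsg.pCore p (Subgroup.normalizer (R : Set ↥(D.group F)))).map
      (Subgroup.normalizer (R : Set ↥(D.group F))).subtype = R)
    {x : ↥(D.group F)} (hx : ¬ p ∣ orderOf x) (hc : ∀ r ∈ R, x * r = r * x) : x = 1 := by
  have hp : p.Prime := Fact.out
  set U : Subgroup (GL D.Idx F) := R.map (D.group F).subtype with hU
  have hUG : U ≤ D.group F := Subgroup.map_subtype_le R
  have hUne : U ≠ ⊥ := fun h => hne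
    ((Subgroup.map_eq_bot_iff_of_injective _ (D.group F).subtype_injective).1 h)
  obtain ⟨g, hg, J, hJ, hN, hUle⟩ := ChevBorelTits.exists_parabolic C p hUG (hR.map _) hUne
  -- the conjugated radical inside the group
  set V0 : Subgroup (GL D.Idx F) := (D.unipotentRadical F J).map (MulAut.conj g).toMonoidHom with hV0
  set V : Subgroup ↥(D.group F) := V0.subgroupOf (D.group F) with hV
  have hVp : IsPGroup p V :=
    ((ChevRadical.isPGroup_radical (J := J) C p).map _).comap_of_injective _ (D.group F).subtype_injective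
  have hRV : R ≤ V := fun r hr => hUle ⟨r, hr, rfl⟩
  have hnormV : ∀ y ∈ Subgroup.normalizer (R : Set ↥(D.group F)), ∀ v ∈ V, y * v * y⁻¹ ∈ V := by
    intro y hy v hv
    have hyU : (y : GL D.Idx F) ∈ Subgroup.normalizer (U : Set (GL D.Idx F)) ⊓ D.group F := by
      refine ⟨Subgroup.mem_normalizer_iff.2 fun z => ?_, y.2⟩
      constructor
      · rintro ⟨r, hr, rfl⟩
        exact ⟨y * r * y⁻¹, (Subgroup.mem_normalizer_iff.1 hy r).1 hr, by simp⟩
      · rintro ⟨r, hr, hrz⟩
        refine ⟨y⁻¹ * r * y, (Subgroup.mem_normalizer_iff.1 hy _).2 (by simpa [mul_assoc] using hr), ?_⟩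
        simp only [Subgroup.coe_subtype, Subgroup.coe_mul, Subgroup.coe_inv] at hrz ⊢
        rw [hrz]; group
    obtain ⟨q, hq, hqy⟩ := hN hyU
    obtain ⟨z, hz, hzv⟩ := hv
    refine ⟨q * z * q⁻¹, (Subgroup.mem_normalizer_iff.1 (C.parabolic_le_normalizer hq) z).1 hz, ?_⟩
    simp only [MulEquiv.coe_toMonoidHom, MulAut.conj_apply, Subgroup.coe_subtype, Subgroup.coe_mul,
      Subgroup.coe_inv] at hqy hzv ⊢
    rw [← hqy, ← hzv]; group
  -- the subgroup is the whole radical
  have hRV' : R = V := by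
    by_contra hne'
    have hlt : R.subgroupOf V < ⊤ := lt_top_iff_ne_top.2 fun h =>
      hne' (le_antisymm hRV (Subgroup.subgroupOf_eq_top.1 h))
    haveI := hVp.isNilpotent
    obtain ⟨y, hy, hy'⟩ := SetLike.exists_of_lt
      (Group.normalizerCondition_of_isNilpotent (G := V) _ hlt)
    apply hy'
    have hyN : (y : ↥(D.group F)) ∈ Subgroup.normalizer (R : Set ↥(D.group F)) := by
      rw [Subgroup.mem_normalizer_iff] at hy ⊢
      intro z
      refine ⟨fun hz => (hy ⟨z, hRV hz⟩).1 hz, fun hz => ?_⟩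
      have hzV : z ∈ V := by
        have := V.mul_mem (V.mul_mem (V.inv_mem y.2) (hRV hz)) y.2
        simpa [mul_assoc] using this
      exact (hy ⟨z, hzV⟩).2 hz
    rw [Subgroup.mem_subgroupOf, ← hcore]
    refine ⟨⟨(y : ↥(D.group F)), hyN⟩, ?_, rfl⟩
    refine CfsgLib.PCore.le_pCore (N := V.subgroupOf (Subgroup.normalizer (R : Set ↥(D.group F))))
      ⟨fun v hv h => ?_⟩ (hVp.comap_of_injective _ (Subgroup.subtype_injective _))
      (Subgroup.mem_subgroupOf.2 y.2)
    rw [Subgroup.mem_subgroupOf] at hv ⊢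
    exact hnormV _ h.2 _ hv
  have hxU : (x : GL D.Idx F) ∈ Subgroup.normalizer (U : Set (GL D.Idx F)) ⊓ D.group F := by
    refine ⟨Subgroup.mem_normalizer_iff.2 fun z => ?_, x.2⟩
    constructor
    · rintro ⟨r, hr, rfl⟩
      refine ⟨r, hr, ?_⟩
      have := congrArg Subtype.val (hc r hr)
      simp only [Subgroup.coe_mul] at this
      simp [this]
    · rintro ⟨r, hr, hrz⟩
      refine ⟨r, hr, ?_⟩
      have h := congrArg Subtype.val (hc r hr)
      simp only [Subgroup.coe_mul, Subgroup.coe_subtype] at h hrz ⊢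
      calc (r : GL D.Idx F) = (x : GL D.Idx F)⁻¹ * ((x : GL D.Idx F) * r) := by group
        _ = (x : GL D.Idx F)⁻¹ * r * x := by rw [h]; group
        _ = z := by rw [hrz]; group
  obtain ⟨c, hcP, hcx⟩ := hN hxU
  simp only [MulEquiv.coe_toMonoidHom, MulAut.conj_apply] at hcx
  have hrad : c ∈ D.unipotentRadical F J := by
    refine ChevRadical.mem_radical_of_centralises C hchk hJ hcP fun z hz => ?_
    have hzG : g * z * g⁻¹ ∈ D.group F :=
      mul_mem (mul_mem hg (ChevRadical.parabolic_le_group (J := J) C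
        (le_sup_left (a := D.borelSubgroup F) (C.radical_le_borel hz)))) (inv_mem hg)
    have hzR : (⟨g * z * g⁻¹, hzG⟩ : ↥(D.group F)) ∈ R := by
      rw [hRV']; exact ⟨z, hz, rfl⟩
    have h := congrArg Subtype.val (hc _ hzR)
    simp only [Subgroup.coe_mul] at h
    rw [← hcx] at h
    calc c * z * c⁻¹ = g⁻¹ * ((g * c * g⁻¹) * (g * z * g⁻¹)) * g * c⁻¹ := by group
      _ = g⁻¹ * ((g * z * g⁻¹) * (g * c * g⁻¹)) * g * c⁻¹ := by rw [h]
      _ = z := by group
  have hxV : x ∈ V := ⟨c, hrad, hcx⟩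
  obtain ⟨k, hk⟩ := IsPGroup.iff_orderOf.1 hVp ⟨x, hxV⟩
  rw [Subgroup.orderOf_mk] at hk
  rcases k with _ | k
  · rw [pow_zero] at hk; exact orderOf_eq_one_iff.1 hk
  · exact absurd (hk ▸ dvd_pow_self p (Nat.succ_ne_zero k)) hx

variable [Fintype ↥(D.group F)] {M : Ideal Cfsg.AlgInt}

include C hchk in
/-- Every block has defect zero or a Sylow subgroup as defect group. -/
theorem defect_trivial_or_sylow (hM : Cfsg.IsPModular p M)
    {B : Set (Cfsg.IrrCharacter ↥(D.group F))} (hB : Cfsg.IsPBlock M B) :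
    Cfsg.blockDefect p B = 0 ∨ ∃ P : Sylow p ↥(D.group F), Cfsg.IsDefectGroup p M B P := by
  classical
  haveI := hM.2.1
  have hp : p.Prime := Fact.out
  obtain ⟨R, hR⟩ := CfsgLib.BrauerPairs.exists_defectGroup hM hB
  have hcard := CfsgLib.BlockCover.natCard_defect hM hB hR
  rcases eq_or_ne R ⊥ with rfl | hne
  · left
    rw [Subgroup.card_bot] at hcard
    exact (Nat.pow_eq_one.1 hcard.symm).resolve_left hp.ne_one
  right
  obtain ⟨x, hxreg, -, S, hS⟩ := CfsgLib.BlockCover.exists_regular_sylow hM hB hR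
  have hRp : IsPGroup p R := hS ▸ S.2.map _
  have hx1 : x = 1 := eq_one_of_centralises C hchk p hRp hne
    (Cfsg.Agent.S0955.result p M hM B hB R hR) hxreg fun r hr => by
      rw [← hS] at hr
      obtain ⟨r, -, rfl⟩ := hr
      exact (Subgroup.mem_centralizer_singleton_iff.1 r.2).symm
  have h := CfsgLib.BlockCover.natCard_sylow_centralizer S
  have htop : Subgroup.centralizer ({x} : Set ↥(D.group F)) = ⊤ := by
    rw [eq_top_iff]; intro y _
    rw [Subgroup.mem_centralizer_singleton_iff, hx1, one_mul, mul_one]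
  rw [hS, htop, Subgroup.card_top] at h
  exact ⟨Sylow.ofCard R h, hR⟩

include C hchk in
/-- A `p`-regular element centralising a Sylow subgroup is trivial. -/
theorem eq_one_of_centralises_sylow (P : Sylow p ↥(D.group F)) (hP : (P : Subgroup ↥(D.group F)) ≠ ⊥)
    {x : ↥(D.group F)} (hx : ¬ p ∣ orderOf x) (hc : ∀ r ∈ (P : Subgroup ↥(D.group F)), x * r = r * x) :
    x = 1 := by
  refine eq_one_of_centralises C hchk p P.2 hP ?_ hx hc
  set N := Subgroup.normalizer ((P : Subgroup ↥(D.group F)) : Set ↥(D.group F))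
  refine le_antisymm (P.3 (CfsgLib.PCore.pCore_isPGroup.map _) ?_).le ?_ <;>
  · intro r hr
    refine ⟨⟨r, Subgroup.le_normalizer hr⟩, ?_, rfl⟩
    exact CfsgLib.PCore.le_pCore (N := (P : Subgroup ↥(D.group F)).subgroupOf N)
      Subgroup.normal_in_normalizer (P.2.comap_of_injective _ N.subtype_injective)
      (Subgroup.mem_subgroupOf.2 hr)

include C hchk in
/-- There are exactly two blocks. -/
theorem card_blocks (hM : Cfsg.IsPModular p M) (hN : D.nroots / 2 ≠ 0) :
    Nat.card {B : Set (Cfsg.IrrCharacter ↥(D.group F)) // Cfsg.IsPBlock M B} = 2 := by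
  classical
  haveI := hM.2.1
  have hp : p.Prime := Fact.out
  set a := (Nat.card ↥(D.group F)).factorization p with ha
  have hqa : p ^ a = Fintype.card F ^ (D.nroots / 2) := SteinbergChar.factorization_card_group C p
  have hq1 : 1 < Fintype.card F ^ (D.nroots / 2) := Nat.one_lt_pow hN Fintype.one_lt_card
  have ha0 : a ≠ 0 := fun h => by
    rw [h, pow_zero] at hqa; omega
  obtain ⟨P₀⟩ : Nonempty (Sylow p ↥(D.group F)) := inferInstance
  have hcardP : Nat.card (P₀ : Subgroup ↥(D.group F)) = p ^ a := P₀.card_eq_multiplicity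
  have hP₀ : (P₀ : Subgroup ↥(D.group F)) ≠ ⊥ := fun h => by
    rw [h, Subgroup.card_bot, hqa] at hcardP; omega
  -- the Steinberg character
  let st : Cfsg.IrrCharacter ↥(D.group F) := ⟨_, SteinbergChar.isIrrCharacter_steinberg C⟩
  have hstdeg : Cfsg.charDegree (st : ↥(D.group F) → ℂ) = p ^ a := by
    rw [hqa, Cfsg.charDegree, show (st : ↥(D.group F) → ℂ) 1 = _ from SteinbergChar.steinberg_one C,
      ← Nat.cast_pow, Complex.natCast_re, Nat.floor_natCast]
  have hstdef : ¬ p ∣ Nat.card ↥(D.group F) / Cfsg.charDegree (st : ↥(D.group F) → ℂ) := by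
    rw [hstdeg]; exact Nat.not_dvd_ordCompl hp Nat.card_pos.ne'
  have hsing := (Cfsg.Agent.S0914.result p M hM st).1 hstdef
  have hsingB : Cfsg.IsPBlock M ({st} : Set (Cfsg.IrrCharacter ↥(D.group F))) := ⟨st, hsing.symm⟩
  -- every other block has the Sylow subgroup as defect group
  have hother : ∀ B : Set (Cfsg.IrrCharacter ↥(D.group F)), Cfsg.IsPBlock M B → B ≠ {st} →
      Cfsg.IsDefectGroup p M B (P₀ : Subgroup ↥(D.group F)) := by
    intro B hB hne
    rcases defect_trivial_or_sylow C hchk p hM hB with h0 | ⟨P, hP⟩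
    · exfalso
      obtain ⟨η, hη, hmin⟩ := CfsgLib.BlockCover.exists_height_zero (p := p) hM hB
      rw [CfsgLib.BlockCover.blockDefect_eq hη hmin, Nat.sub_eq_zero_iff_le] at h0
      obtain ⟨m, hm0, hm⟩ := CfsgLib.Characters.irr_exists_degree η.2
      have hdeg : Cfsg.charDegree (η : ↥(D.group F) → ℂ) = m := by
        rw [Cfsg.charDegree, hm, Complex.natCast_re, Nat.floor_natCast]
      have heq : (η : ↥(D.group F) → ℂ) = D.steinbergCharacter F :=
        SteinbergChar.eq_steinberg_of_defect_zero C p η.2 ⟨m, hm, by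
          rw [hdeg] at h0
          exact (hp.pow_dvd_iff_le_factorization hm0.ne').2 h0⟩
      have hηst : η = st := Subtype.ext heq
      refine hne ?_
      rw [CfsgLib.Blocks.IsPBlock.eq_blockOf hM hB (hηst ▸ hη : st ∈ B)]
      exact hsing
    · obtain ⟨t, ht⟩ := MulAction.exists_smul_eq ↥(D.group F) P P₀
      have h := CfsgLib.BlockCover.isDefectGroup_conj hM hB hP t
      rwa [show (P₀ : Subgroup ↥(D.group F)) = (P : Subgroup ↥(D.group F)).map (MulAut.conj t).toMonoidHom by
        rw [← ht]; rfl]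
  -- at most one block with that defect group
  have hsub : Subsingleton {B : Set (Cfsg.IrrCharacter ↥(D.group F)) //
      Cfsg.IsPBlock M B ∧ Cfsg.IsDefectGroup p M B (P₀ : Subgroup ↥(D.group F))} := by
    refine (Finite.card_le_one_iff_subsingleton).1 ?_
    rw [CfsgLib.BlockCover.rank_pairCount hM (P₀ : Subgroup ↥(D.group F)) P₀
      (fun _ : Unit => (1 : ↥(D.group F))) (fun _ _ _ => rfl)
      (fun _ => by rw [orderOf_one]; exact hp.not_dvd_one) (fun _ => ?_) (fun g hg hQ => ?_)]
    · exact (Matrix.rank_le_card_width _).trans (le_of_eq Fintype.card_unit)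
    · have hle : (P₀ : Subgroup ↥(D.group F)) ≤ Subgroup.centralizer ({1} : Set ↥(D.group F)) :=
        fun r _ => Subgroup.mem_centralizer_singleton_iff.2 (by simp)
      exact ⟨P₀.subtype hle, Subgroup.map_subgroupOf_eq_of_le hle⟩
    · obtain ⟨Q, hQ⟩ := hQ
      have hg1 : g = 1 := eq_one_of_centralises_sylow C hchk p P₀ hP₀ hg fun r hr => by
        rw [← hQ] at hr
        obtain ⟨r, -, rfl⟩ := hr
        exact (Subgroup.mem_centralizer_singleton_iff.1 r.2).symm
      exact ⟨(), hg1 ▸ IsConj.refl _⟩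
  set B1 := Cfsg.principalBlock M ↥(D.group F)
  have hB1 : Cfsg.IsPBlock M B1 := CfsgLib.Blocks.isPBlock_principalBlock M
  have hB1ne : B1 ≠ {st} := fun h => by
    have hmem : CfsgLib.Characters.principalIrr ↥(D.group F) ∈ B1 := CfsgLib.BlockCover.principalIrr_mem hM
    rw [h, Set.mem_singleton_iff] at hmem
    have h1 := congrArg (fun χ : Cfsg.IrrCharacter ↥(D.group F) => Cfsg.charDegree (χ : ↥(D.group F) → ℂ)) hmem
    simp only [hstdeg, hqa] at h1
    have h2 : Cfsg.charDegree (CfsgLib.Characters.principalIrr ↥(D.group F) : ↥(D.group F) → ℂ) = 1 := by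
      simp [Cfsg.charDegree, CfsgLib.Characters.principalIrr]
    omega
  have hset : {B : Set (Cfsg.IrrCharacter ↥(D.group F)) | Cfsg.IsPBlock M B} = {B1, {st}} := by
    ext B
    simp only [Set.mem_ofPred_eq, Set.mem_insert_iff, Set.mem_singleton_iff]
    refine ⟨fun hB => ?_, ?_⟩
    · by_cases h : B = {st}
      · exact Or.inr h
      · exact Or.inl (congrArg Subtype.val (Subsingleton.elim
          (⟨B, hB, hother B hB h⟩ : {B // Cfsg.IsPBlock M B ∧ Cfsg.IsDefectGroup p M B (P₀ : Subgroup _)})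
          ⟨B1, hB1, hother B1 hB1 hB1ne⟩))
    · rintro (rfl | rfl)
      exacts [hB1, hsingB]
  exact (Nat.card_coe_set_eq _).trans ((congrArg Set.ncard hset).trans (Set.ncard_pair hB1ne))

end CfsgLib.ChevBlocks
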